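import Groth.Prelude.Def_SuppFam
import Groth.Agent.DerExt.Coyoneda
import Groth.Agent.ExtShX.SiteRestr
import Groth.Agent.GrothSS.SupportSS
import Groth.Agent.LCZ.Supp
import Groth.Agent.LCZQC.LocClosed
import Groth.Agent.KFlat.Site

/-!
Local cohomology sheaves are the sheaves associated to the presheaves of cohomology with supports.
-/

set_option autoImplicit false
set_option linter.unusedVariables false
set_option linter.style.haveILetI false
set_option backward.isDefEq.respectTransparency false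
set_option backward.isDefEq.respectTransparency.types false
set_option maxHeartbeats 1000000

universe v u

open CategoryTheory CategoryTheory.Limits Opposite TopologicalSpace CategoryTheory.Abelian

noncomputable section

namespace Groth.Agent.LCZpre

section Precomp

variable {C : Type u} [Category.{v} C] [Abelian C] [HasExt.{v} C]

/-- The comparison with `Ext` is natural in the first variable. -/
theorem homologyToExt_precomp {P P' : C} (a : P' ⟶ P) {Y : C} (R : InjectiveResolution Y) (n : ℕ) :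
    HomologicalComplex.homologyMap
        ((NatTrans.mapHomologicalComplex (preadditiveCoyoneda.map a.op) (ComplexShape.up ℕ)).app R.cocomplex) n ≫
        DerExt.homologyToExt P' R n =
      DerExt.homologyToExt P R n ≫ AddCommGrpCat.ofHom ((Ext.mk₀ a).precomp Y (zero_add n)) := by
  refine (cancel_epi ((DerExt.homCx P R).homologyπ n)).1 ?_
  rw [HomologicalComplex.homologyπ_naturality_assoc]
  erw [DerExt.homologyπ_homologyToExt, reassoc_of% (DerExt.homologyπ_homologyToExt P R n)]
  ext z
  refine Eq.trans (DerExt.extMk_congr P' R (g := a ≫ DerExt.cycHom P R n z) (DerExt.cycHom_d P' R n _) ?_ ?_)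
    (InjectiveResolution.mk₀_comp_extMk _ _ _ _ (DerExt.cycHom_d P R n z) a).symm
  · rw [Category.assoc, DerExt.cycHom_d, comp_zero]
  · exact ConcreteCategory.congr_hom (HomologicalComplex.cyclesMap_i
      ((NatTrans.mapHomologicalComplex (preadditiveCoyoneda.map a.op) (ComplexShape.up ℕ)).app R.cocomplex) n) z

end Precomp

variable {X : TopCat.{u}} {W V : Opens X} (h : W ≤ V)

/-- The image in `X` of the trace of an open on `V`. -/
abbrev im (V : Opens X) (V' : Opens X) : Opens X :=
  V.isOpenEmbedding.isOpenMap.functor.obj ((Opens.map (CohCx.incl V)).obj V')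

lemma le_im (V' : Opens X) : V ⊓ V' ≤ im V V' := fun x hx => ⟨⟨x, hx.1⟩, hx.2, rfl⟩

lemma im_le (V' : Opens X) : im V V' ≤ V ⊓ V' := by
  rintro _ ⟨⟨x, hx⟩, hx', rfl⟩
  exact ⟨hx, hx'⟩

lemma le_im_inf (h : W ≤ V) (V' : Opens X) :
    W ⊓ V' ≤ V.isOpenEmbedding.isOpenMap.functor.obj
      ((Opens.map (CohCx.incl V)).obj V' ⊓ SuppFam.inOpen V W) :=
  fun x hx => ⟨⟨x, h hx.1⟩, ⟨hx.2, hx.1⟩, rfl⟩

/-- Open `V'` to `ℤ` on `V' ∩ (V ∖ W)`. -/
def zqF : Opens X ⥤ CohTop.Ab X where
  obj V' := LocCohZ.zq (inf_le_inf_right V' h : W ⊓ V' ≤ V ⊓ V')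
  map {V₁ V₂} g := LocCohZ.zqMap (inf_le_inf_right V₂ h) (inf_le_inf_right V₁ h)
    (inf_le_inf_left W (leOfHom g)) (inf_le_inf_left V (leOfHom g))
  map_id V' := SuppFam.zqMap_id _
  map_comp {V₁ V₂ V₃} g g' := (SuppFam.zqMap_comp _ _ _ _ _ _ _).symm

/-- `G ↦ (V' ↦ Hom(ℤ_{V' ∩ Z}, G))`. -/
abbrev hPre : CohTop.Ab X ⥤ (Opens X)ᵒᵖ ⥤ AddCommGrpCat.{u} :=
  preadditiveYoneda ⋙ (Functor.whiskeringLeft _ _ _).obj (zqF h).op

instance additive_hPre : (hPre h).Additive where
  map_add {G G'} {f g} := by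
    ext V' a
    exact Preadditive.comp_add _ _ _ (show (zqF h).obj V'.unop ⟶ G from a) f g

variable {G : CohTop.Ab X}

/-- A section with supports as a map out of `ℤ_{V' ∩ Z}`. -/
def secHom (V' : Opens X) (t : ((SuppFam.sectSuppLC h).obj G).obj.obj (op V')) :
    (zqF h).obj V' ⟶ G :=
  LCZ.zqHom _ (LCZ.res G (le_im V')
      ((LCZ.suppι (X := TopCat.of V) (SuppFam.inOpen V W) ((CohTop.restrFunctor V).obj G)).hom.app (op _) t)) (by
    rw [LCZ.res_res]
    have e := LCZ.res_suppι (X := TopCat.of V) (SuppFam.inOpen V W) ((CohTop.restrFunctor V).obj G) t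
    have e' := congrArg (LCZ.res G (le_im_inf h V')) e
    rw [map_zero] at e'
    exact (LCZ.res_res G _ _ _).symm.trans e')

lemma zqSec_secHom (V' : Opens X) (t : ((SuppFam.sectSuppLC h).obj G).obj.obj (op V')) :
    LCZ.zqSec _ (secHom h V' t) = LCZ.res G (le_im V')
      ((LCZ.suppι (X := TopCat.of V) (SuppFam.inOpen V W) ((CohTop.restrFunctor V).obj G)).hom.app (op _) t) :=
  LCZ.zqSec_zqHom _ _ _

lemma restr_res {O O' : Opens (TopCat.of V)} (hle : O' ≤ O)
    (s : G.obj.obj (op (V.isOpenEmbedding.isOpenMap.functor.obj O))) :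
    LCZ.res (X := TopCat.of V) ((CohTop.restrFunctor V).obj G) hle s =
      LCZ.res G (V.isOpenEmbedding.isOpenMap.functor.map (homOfLE hle)).le s := rfl

lemma secHom_bijective (V' : Opens X) : Function.Bijective (secHom h (G := G) V') := by
  refine ⟨fun a b e => ?_, fun φ => ?_⟩
  · refine LCZ.suppι_injective (X := TopCat.of V) (SuppFam.inOpen V W) _ _ ?_
    have e' := congrArg (fun s => LCZ.res G (im_le (V := V) V') s)
      (((zqSec_secHom h V' a).symm.trans (congrArg (LCZ.zqSec _) e)).trans (zqSec_secHom h V' b))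
    simp only [LCZ.res_res, LCZ.res_self] at e'
    exact e'
  · have h0 : LCZ.res (X := TopCat.of V) ((CohTop.restrFunctor V).obj G)
        (inf_le_left : (Opens.map (CohCx.incl V)).obj V' ⊓ SuppFam.inOpen V W ≤ _)
        (LCZ.res G (im_le (V := V) V') (LCZ.zqSec _ φ)) = 0 := by
      have e := congrArg (LCZ.res G (show V.isOpenEmbedding.isOpenMap.functor.obj
          ((Opens.map (CohCx.incl V)).obj V' ⊓ SuppFam.inOpen V W) ≤ W ⊓ V' from by
        rintro _ ⟨⟨x, hx⟩, ⟨h₁, h₂⟩, rfl⟩
        exact ⟨h₂, h₁⟩)) (LCZ.res_zqSec _ φ)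
      rw [map_zero, LCZ.res_res] at e
      refine Eq.trans ?_ e
      exact (restr_res _ _).trans (LCZ.res_res G (im_le (V := V) V') _ _)
    obtain ⟨t, ht⟩ := LCZ.exists_suppι (X := TopCat.of V) (SuppFam.inOpen V W) h0
    refine ⟨t, LCZ.zqSec_injective _ ?_⟩
    rw [zqSec_secHom, ht, LCZ.res_res, LCZ.res_self]

lemma secHom_map {G' : CohTop.Ab X} (f : G ⟶ G') (V' : Opens X)
    (t : ((SuppFam.sectSuppLC h).obj G).obj.obj (op V')) :
    secHom h V' (((SuppFam.sectSuppLC h).map f).hom.app (op V') t) = secHom h V' t ≫ f := by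
  apply LCZ.zqSec_injective
  refine (zqSec_secHom h V' _).trans (Eq.trans ?_ (LCZ.zqSec_comp _ _ f).symm)
  rw [zqSec_secHom]
  refine Eq.trans ?_ (LCZ.app_res f (le_im V') _).symm
  exact congrArg (LCZ.res G' (le_im V'))
    (LCZ.suppι_map_apply (X := TopCat.of V) (SuppFam.inOpen V W) ((CohTop.restrFunctor V).map f) t)

lemma secHom_res {V₁ V₂ : Opens X} (g : V₂ ⟶ V₁) (t : ((SuppFam.sectSuppLC h).obj G).obj.obj (op V₁)) :
    secHom h V₂ (((SuppFam.sectSuppLC h).obj G).obj.map g.op t) = (zqF h).map g ≫ secHom h V₁ t := by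
  apply LCZ.zqSec_injective
  refine (zqSec_secHom h V₂ _).trans (Eq.trans ?_ (LCZ.zqSec_zqMap _ _ (inf_le_inf_left W (leOfHom g)) (inf_le_inf_left V (leOfHom g)) _).symm)
  rw [zqSec_secHom, LCZ.res_res]
  have e := LCZ.app_res (X := TopCat.of V)
    (LCZ.suppι (X := TopCat.of V) (SuppFam.inOpen V W) ((CohTop.restrFunctor V).obj G))
    ((Opens.map (CohCx.incl V)).map g).le t
  refine (congrArg (LCZ.res G (le_im V₂)) e).trans ?_
  exact (congrArg (LCZ.res G (le_im V₂)) (restr_res _ _)).trans (LCZ.res_res G _ _ _)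

lemma secHom_add (V' : Opens X) (a b : ((SuppFam.sectSuppLC h).obj G).obj.obj (op V')) :
    secHom h V' (a + b) = secHom h V' a + secHom h V' b := by
  apply LCZ.zqSec_injective
  rw [zqSec_secHom, map_add, map_add]
  show _ = LCZ.zqSec _ (secHom h V' a + secHom h V' b)
  simp only [LCZ.zqSec, Preadditive.comp_add, map_add]
  exact congrArg₂ (· + ·) (zqSec_secHom h V' a).symm (zqSec_secHom h V' b).symm

/-- Sections of `Γ_Z` are maps out of `ℤ` on the locally closed set. -/
def preIso : SuppFam.sectSuppLC h ⋙ sheafToPresheaf (Opens.grothendieckTopology X) AddCommGrpCat.{u} ≅ hPre h :=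
  NatIso.ofComponents (fun G => NatIso.ofComponents
    (fun V' => (AddEquiv.ofBijective (AddMonoidHom.mk' (secHom h (G := G) V'.unop) (secHom_add h V'.unop))
      (secHom_bijective h V'.unop)).toAddCommGrpIso)
    (fun {V₁ V₂} g => by
      ext t
      exact secHom_res h g.unop t))
    (fun {G G'} f => by
      ext V' t
      exact secHom_map h f V'.unop t)

theorem nonempty_iso (F : CohTop.Ab X) (q : ℕ) :
    Nonempty ((SuppFam.HZshLC h q).obj F ≅
      (presheafToSheaf (Opens.grothendieckTopology X) AddCommGrpCat.{u}).obj (SuppFam.HZpre F q h)) := by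
  let J := Opens.grothendieckTopology X
  let L := presheafToSheaf J AddCommGrpCat.{u}
  let T := sheafToPresheaf J AddCommGrpCat.{u}
  let S := SuppFam.sectSuppLC h
  haveI : L.Additive := inferInstance
  haveI : L.PreservesHomology := Functor.preservesHomologyOfExact L
  let R := injectiveResolution F
  let e₁ : S ≅ (S ⋙ T) ⋙ L := S.rightUnitor.symm ≪≫
    Functor.isoWhiskerLeft S (asIso (sheafificationAdjunction J AddCommGrpCat.{u}).counit).symm ≪≫
      (Functor.associator _ _ _).symm
  let K := ((hPre h).mapHomologicalComplex (ComplexShape.up ℕ)).obj R.cocomplex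
  let e₂ : K.homology q ≅ SuppFam.HZpre F q h :=
    NatIso.ofComponents (fun V' => ((K.sc q).mapHomologyIso ((evaluation _ _).obj V')).symm ≪≫
      @asIso _ _ _ _ (DerExt.homologyToExt ((zqF h).obj V'.unop) R q)
        ((ConcreteCategory.isIso_iff_bijective _).2 (DerExt.homologyToExt_bijective _ R q)))
      (fun {V₁ V₂} g => by
        have e := NatTrans.app_homology ((evaluation _ AddCommGrpCat.{u}).map g) (K.sc q)
        simp only [evaluation_map_app] at e
        change (K.sc q).homology.map g ≫ _ = _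
        rw [e]
        simp only [Iso.trans_hom, Iso.symm_hom, asIso_hom, Category.assoc]
        erw [Iso.hom_inv_id_assoc]
        exact congrArg (((K.sc q).mapHomologyIso ((evaluation _ _).obj V₁)).inv ≫ ·)
          (homologyToExt_precomp ((zqF h).map g.unop) R q))
  exact ⟨(GrothSS.rightDerivedMapIso e₁ q).app F ≪≫ (ExtShX.postCompIso (S ⋙ T) L q).app F ≪≫
    L.mapIso ((GrothSS.rightDerivedMapIso (preIso h) q).app F ≪≫ R.isoRightDerivedObj (hPre h) q ≪≫ e₂)⟩

end Groth.Agent.LCZpre
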